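import Cfsg.Agent.H713.LieRow
import Cfsg.Agent.H713.Reduce
import Cfsg.Agent.H713.Spor.M
import Cfsg.Agent.H713.Spor.B
import Cfsg.Agent.H713.Spor.FiTF
import Cfsg.Agent.H713.Spor.Fi23
import Cfsg.Agent.H713.Spor.Fi22
import Cfsg.Agent.H713.Spor.Small
import Cfsg.Agent.H713.Spor.HS
import Cfsg.Agent.H713.Spor.McL
import Cfsg.Agent.H713.Spor.ON
import Cfsg.Agent.H714.PSpFour
import Cfsg.Agent.H714.SmallIso
import Cfsg.Agent.H714.SporRows
import Cfsg.Agent.H714.AltFull
import Cfsg.Agent.H690.Spor.Ru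
import Cfsg.Agent.H690.Spor.SuzRow
import Cfsg.Agent.H690.Spor.Tits
import Cfsg.Agent.H723.Spor.JFour
import Cfsg.Agent.H723.Spor.Th
import Cfsg.Agent.H710.Spor.He
import Cfsg.Agent.H710.Spor.HN
import Cfsg.Agent.H419.Spor.Co1
import Cfsg.Agent.H710.Spor.Ly
import Cfsg.Agent.H713.Spor.JTwo
import Cfsg.Agent.H713.Spor.JThree
import Cfsg.Agent.Mrg.Omega.ML.AltRow

/-!
# The assembly of S4943 (helper713)

`row_of_known` : every known non-abelian finite simple group has its `Row`.
-/

set_option autoImplicit false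

namespace Cfsg.Agent.H713.Assemble

open Cfsg Cfsg.Agent.H713

universe u v


theorem small : LieRow.Small.{u} where
  l24 _ _ _ h := H714.SmallIso.row_psl_two_four h
  l32 _ _ _ h := H714.SmallIso.row_psl_three_two h
  l42 _ _ _ h := H714.SmallIso.row_psl_four_two h
  s44 _ _ _ h := H714.PSpFour.row h

variable {S : Type u} [Group S] [Finite S]

theorem row_spor (h : IsSporadicGroup S) : Row.{u, u} S := by
  rcases h with h | h | h | h | h | h | h | h | h | h | h | h | h | h | h | h | h | h | h | h | h |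
    h | h | h | h | h
  · exact H713.Spor.Small.row_m11_iso h
  · exact H714.SporRows.row_m12 h
  · exact H713.Spor.Small.row_m22 h
  · exact H713.Spor.Small.row_m23 h
  · exact H713.Spor.Small.row_m24 h
  · exact H714.SporRows.row_j1 h
  · exact H713.Spor.JTwo.row_j2 h
  · exact H713.Spor.JThree.row_j3 h
  · exact H723.Spor.JFour.row_j4 h
  · exact H419.Spor.Co1.row_co1 h
  · exact H713.Spor.Small.row_co2 h
  · exact H713.Spor.Small.row_co3 h
  · exact H713.Spor.McL.row_mcl h
  · exact H713.Spor.HS.row_hs h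
  · exact H690.Spor.SuzRow.row h
  · exact H710.Spor.He.row_he h
  · exact H690.Spor.Ru.row h
  · exact H713.Spor.ON.row_on h
  · exact H710.Spor.Ly.row_ly h
  · exact H713.Spor.Fi22.row_fi22 h
  · exact H713.Spor.Fi23.row_fi23 h
  · exact H713.Spor.FiTF.row_fi24 h
  · exact H710.Spor.HN.row_hn h
  · exact H723.Spor.Th.row_th h
  · exact H713.Spor.B.row_b h
  · exact H713.Spor.M.row_m h

theorem row_of_known [IsSimpleGroup S] (hna : ∃ a b : S, a * b ≠ b * a)
    (h : IsKnownSimple' S) : Row.{u, u} S := by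
  rcases Omega.ML.Known.cases h with h | h | h | h | h | h | h
  · exfalso
    obtain ⟨a, b, hab⟩ := hna
    have hp : Fact (Nat.card S).Prime := ⟨h⟩
    have hc : IsCyclic S := isCyclic_of_prime_card rfl
    exact hab (IsCyclic.commGroup.mul_comm a b)
  · exact LieRow.row_lie_two hna small h
  · obtain ⟨⟨p, hp, hp2, hl⟩, -⟩ := h
    exact LieRow.row_lie_odd hna small hp hp2 hl
  · obtain ⟨e⟩ := h
    exact (H714.AltFull.row_alt_full (by norm_num)).mulEquiv e.symm
  · obtain ⟨n, hn, -, ⟨e⟩⟩ := h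
    exact (H714.AltFull.row_alt_full (by omega)).mulEquiv e.symm
  · exact H690.Spor.Tits.row h
  · exact row_spor h

/-- S4943 from the classification. -/
theorem solvable_of
    (hkn : ∀ (S : Type u) [Group S] [Finite S] [IsSimpleGroup S], IsKnownSimple' S)
    {G : Type u} [Group G] [Finite G] (hG : Star G) : Group.IsSolvable G :=
  solvable_of_rows (fun S _ _ _ hna => row_of_known hna (hkn S)) (Nat.card G) G le_rfl hG

end Cfsg.Agent.H713.Assemble
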