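import Cfsg.Agent.H713.Engine
import Cfsg.Agent.H690.LieRow
import Cfsg.Agent.H690.LieGood
import Cfsg.Agent.H705.L2
import Cfsg.Agent.H714.RowTools
import Cfsg.Agent.H714.PslRow
import Cfsg.Agent.H723.L2Even
import Cfsg.Agent.H723.L3Even
import Cfsg.Agent.H723.L34
import Cfsg.Agent.H723.SzRow
import Cfsg.Agent.H710.UThree
import Cfsg.Agent.ClassicalGeometry.PSL2Solvable
import Cfsg.Agent.LieClassical.Order72

/-!
# The rows of the groups of Lie type (helper713)

* `row_of_wide` : groups of Lie type in characteristic two with an element of order `4 k`, `k > 1`,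
  or `2 m`, `m > 1` odd and not prime: the Steinberg character
* `Small` : the rows of `PSL(2, 4)`, `PSL(3, 2)`, `PSL(4, 2)`, `PSp(4, 4)`
* `row_lie_two`, `row_lie_odd`
-/

set_option autoImplicit false

namespace Cfsg.Agent.H713.LieRow

open Cfsg Cfsg.Agent.H713 Cfsg.Agent.FixBN
open Cfsg.Agent.ClassicalGeometry.PSL2Basic Cfsg.Agent.ClassicalGeometry.PSL2Solvable

universe u v

/-- The small groups of Lie type in characteristic two. -/
structure Small : Prop where
  l24 : ∀ (F : Type) [Field F] [Fintype F], Fintype.card F = 4 →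
    Row.{u, 0} (Matrix.ProjectiveSpecialLinearGroup (Fin 2) F)
  l32 : ∀ (F : Type) [Field F] [Fintype F], Fintype.card F = 2 →
    Row.{u, 0} (Matrix.ProjectiveSpecialLinearGroup (Fin 3) F)
  l42 : ∀ (F : Type) [Field F] [Fintype F], Fintype.card F = 2 →
    Row.{u, 0} (Matrix.ProjectiveSpecialLinearGroup (Fin 4) F)
  s44 : ∀ (F : Type) [Field F] [Fintype F], Fintype.card F = 4 → Row.{u, 0} (PSp 2 F)

variable {S : Type v} [Group S] [Finite S]

/-- The Steinberg character and an element of order `4 k` or `2 m`. -/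
theorem row_of_wide (hs : HasSplit 2 S) (hw : H705.L2.Wide S) : Row.{u, v} S := by
  have : Fact (Nat.Prime 2) := ⟨Nat.prime_two⟩
  obtain ⟨g, ⟨h4, hne, h0⟩ | ⟨m, hm1, hmo, hmp, hg⟩⟩ := hw
  · obtain ⟨k, hk⟩ := h4
    have hk0 : k ≠ 0 := by
      rintro rfl
      exact h0 hk
    have hk1 : orderOf (g ^ k) = 4 := by
      rw [orderOf_pow, hk, Nat.gcd_eq_right (Dvd.intro_left 4 rfl), Nat.mul_div_cancel _ (by omega)]
    refine H714.RowTools.row_of_orders (x := g) (y := g ^ k) (d := 4)
      (H690.LieGood.vz_of_hasSplit hs (by rw [hk]; exact ⟨2 * k, by ring⟩))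
      (H690.LieGood.vz_of_hasSplit hs (by rw [hk1]; norm_num)) (by norm_num) ⟨k, hk⟩ (by rw [hk1]) ?_
    rw [hk1]
    exact hne
  · obtain ⟨r, hr, s, hs'⟩ := Nat.exists_prime_and_dvd (n := m) (by omega)
    subst hs'
    have hs0 : s ≠ 0 := by
      rintro rfl
      omega
    have hs1 : s ≠ 1 := by
      rintro rfl
      rw [mul_one] at hmp
      exact hmp hr
    have h1 : orderOf (g ^ s) = 2 * r := by
      rw [orderOf_pow, hg, Nat.gcd_eq_right ⟨2 * r, by ring⟩, ← mul_assoc, Nat.mul_div_cancel _ (by omega)]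
    have hr2 : 2 < r := by
      refine lt_of_le_of_ne hr.two_le ?_
      rintro rfl
      have := (Nat.odd_mul.1 hmo).1
      exact absurd this (by decide)
    refine H714.RowTools.row_of_orders (x := g) (y := g ^ s) (d := 2 * r)
      (H690.LieGood.vz_of_hasSplit hs (by rw [hg]; exact Dvd.intro _ rfl))
      (H690.LieGood.vz_of_hasSplit hs (by rw [h1]; exact Dvd.intro _ rfl)) (by omega)
      ⟨s, by rw [hg]; ring⟩ (by rw [h1]) ?_
    rw [h1, hg]
    intro h2
    have h3 : r * s = r * 1 := by omega
    have := Nat.eq_of_mul_eq_mul_left hr.pos h3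
    exact hs1 this

theorem row_psl_two (hS : Small.{u}) {F : Type} [Field F] [Fintype F] (h4 : 4 ≤ Fintype.card F)
    (e : S ≃* Matrix.ProjectiveSpecialLinearGroup (Fin 2) F) : Row.{u, v} S := by
  rcases Nat.even_or_odd (Fintype.card F) with h | h
  · rcases Nat.lt_or_ge (Fintype.card F) 8 with h8 | h8
    · -- `q = 4`
      have h2 : Fintype.card F = 4 := by
        obtain ⟨p, hp⟩ := CharP.exists F
        have hpp := CharP.char_is_prime F p
        obtain ⟨n, -, hn⟩ := FiniteField.card F p
        rw [hn] at h h4 h8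
        have hp2 : p = 2 := by
          rcases hpp.eq_two_or_odd' with h5 | h5
          · exact h5
          · exact absurd (h5.pow (n := n)) (Nat.not_odd_iff_even.2 h)
        subst hp2
        rw [hn]
        have h6 : (n : ℕ) < 3 := by
          by_contra hcon
          push Not at hcon
          have := Nat.pow_le_pow_right (show 0 < 2 by norm_num) hcon
          omega
        have h7 : 1 < (n : ℕ) := by
          by_contra hcon
          push Not at hcon
          have := Nat.pow_le_pow_right (show 0 < 2 by norm_num) hcon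
          omega
        have h8 : (n : ℕ) = 2 := by omega
        rw [h8]
        norm_num
      exact (hS.l24 F h2).mulEquiv e.symm
    · obtain ⟨p, hp⟩ := CharP.exists F
      have hpp := CharP.char_is_prime F p
      obtain ⟨n, -, hn⟩ := FiniteField.card F p
      have hp2 : p = 2 := by
        rw [hn] at h
        rcases hpp.eq_two_or_odd' with h5 | h5
        · exact h5
        · exact absurd (h5.pow (n := n)) (Nat.not_odd_iff_even.2 h)
      subst hp2
      exact H723.L2Even.row_psl2_even e h8
  · have h5 : 5 ≤ Fintype.card F := by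
      rcases h with ⟨k, hk⟩
      omega
    exact (H714.PslRow.row_psl_odd h h5).mulEquiv e.symm

/-- the cardinality of a field of characteristic two -/
theorem card_cases {F : Type} [Field F] [Fintype F] (h2 : (2 : F) = 0) :
    Fintype.card F = 2 ∨ Fintype.card F = 4 ∨ 8 ≤ Fintype.card F := by
  obtain ⟨p, hp⟩ := CharP.exists F
  have hpp := CharP.char_is_prime F p
  obtain ⟨n, -, hn⟩ := FiniteField.card F p
  have hp2 : p = 2 := by
    have h3 : ((2 : ℕ) : F) = 0 := by exact_mod_cast h2
    rw [CharP.cast_eq_zero_iff F p] at h3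
    exact (Nat.prime_dvd_prime_iff_eq hpp Nat.prime_two).1 h3
  subst hp2
  rw [hn]
  have h3 : (n : ℕ) = 1 ∨ (n : ℕ) = 2 ∨ 3 ≤ (n : ℕ) := by
    have := n.pos
    omega
  rcases h3 with h3 | h3 | h3
  · left; rw [h3]; norm_num
  · right; left; rw [h3]; norm_num
  · right; right
    exact Nat.pow_le_pow_right (show 0 < 2 by norm_num) h3

theorem row_lie_two [IsSimpleGroup S] (hna : ∃ a b : S, a * b ≠ b * a) (hS : Small.{u})
    (hl : IsLieTypeChar 2 S) : Row.{u, v} S := by
  by_cases hw : H705.L2.Wide S
  · exact row_of_wide (H690.LieRow.hasSplit Nat.prime_two hl) hw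
  rcases H705.L2.lie_two hl hw with h | h | h | h | h | h
  · obtain ⟨F, _, _, -, h4, ⟨e⟩⟩ := h
    exact row_psl_two hS h4 e
  · obtain ⟨F, _, _, h2, ⟨e⟩⟩ := h
    rcases card_cases h2 with h | h | h
    · exact (hS.l32 F h).mulEquiv e.symm
    · exact (H723.L34.row_l34 h).mulEquiv e.symm
    · have : CharP F 2 := by
        obtain ⟨p, hp⟩ := CharP.exists F
        have hpp := CharP.char_is_prime F p
        have h3 : ((2 : ℕ) : F) = 0 := by exact_mod_cast h2
        rw [CharP.cast_eq_zero_iff F p] at h3
        have hp2 := (Nat.prime_dvd_prime_iff_eq hpp Nat.prime_two).1 h3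
        exact hp2 ▸ hp
      exact (H723.L3Even.row_psl3_even h).mulEquiv e.symm
  · obtain ⟨F, _, _, h2, ⟨e⟩⟩ := h
    exact (hS.l42 F h2).mulEquiv e.symm
  · obtain ⟨F, _, _, k, hk, hk2, ⟨e⟩⟩ := h
    exact (H710.UThree.row hk2 hk).mulEquiv e.symm
  · obtain ⟨F, _, _, h4, ⟨e⟩⟩ := h
    exact (hS.s44 F h4).mulEquiv e.symm
  · refine H723.SzRow.row_sz ?_ h
    rcases IsSimpleGroup.eq_bot_or_eq_top_of_normal (Subgroup.center S) inferInstance with h1 | h1
    · exact h1
    · exfalso
      obtain ⟨a, b, hab⟩ := hna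
      have : b ∈ Subgroup.center S := h1 ▸ Subgroup.mem_top b
      exact hab (Subgroup.mem_center_iff.1 this a)

theorem row_lie_odd [IsSimpleGroup S] (hna : ∃ a b : S, a * b ≠ b * a) (hS : Small.{u}) {p : ℕ}
    (hp : p.Prime) (hp2 : p ≠ 2) (hl : IsLieTypeChar p S) : Row.{u, v} S := by
  rcases H690.LieRow.lie_odd hp hp2 hl with h | h | h
  · obtain ⟨r, hr, hr2, hs, g, hg⟩ := h
    have : Fact r.Prime := ⟨hr⟩
    have h2 : 2 < r := lt_of_le_of_ne hr.two_le (Ne.symm hr2)
    have h1 : orderOf (g ^ 2) = r := by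
      rw [orderOf_pow, hg, Nat.gcd_eq_right (Dvd.intro _ rfl), Nat.mul_div_cancel_left _ (by norm_num)]
    exact H714.RowTools.row_of_orders (x := g) (y := g ^ 2) (d := r)
      (H690.LieGood.vz_of_hasSplit hs (by rw [hg]; exact Dvd.intro_left _ rfl))
      (H690.LieGood.vz_of_hasSplit hs (by rw [h1])) h2 (by rw [hg]; exact Dvd.intro_left _ rfl)
      (by rw [h1]) (by rw [h1, hg]; omega)
  · obtain ⟨F, _, _, ⟨e⟩⟩ := h
    have h4 : 4 ≤ Fintype.card F := by
      by_contra hcon
      have hq : 1 < Fintype.card F := Fintype.one_lt_card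
      have hdvd : Nat.card (Matrix.ProjectiveSpecialLinearGroup (Fin 2) F) ∣ 72 := by
        rcases Nat.even_or_odd (Fintype.card F) with he | ho
        · have h2 : Fintype.card F = 2 := by
            rw [Nat.even_iff] at he
            omega
          rw [card_PSL2_even F he, h2]
          norm_num
        · have h3 : Fintype.card F = 3 := by
            rw [Nat.odd_iff] at ho
            omega
          have h1 := card_PSL2_odd F ho
          rw [h3] at h1
          have : Nat.card (Matrix.ProjectiveSpecialLinearGroup (Fin 2) F) = 12 := by omega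
          rw [this]
          norm_num
      have hsol := Cfsg.Agent.LieClassical.Order72.isSolvable_of_card_dvd hdvd
      have hsol' : Group.IsSolvable S :=
        Group.isSolvable_of_isSolvable_injective (f := e.toMonoidHom) e.injective
      have hcomm := (IsSimpleGroup.comm_iff_isSolvable (G := S)).mpr hsol'
      obtain ⟨a, b, hab⟩ := hna
      exact hab (hcomm a b)
    exact row_psl_two hS h4 e
  · exact row_lie_two hna hS h

end Cfsg.Agent.H713.LieRow
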